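-- C64 (S6000) package [FRAME]: N(R) is a GL_4-conjugate of N(R0 ι), from STRUCT, GENS, BASIS.
import Mathlib
import Cfsg.Agent.Lib.Helper99.C64.Defs

set_option autoImplicit false

namespace Cfsg.Agent.Lib.Helper29.C64

open Matrix Cfsg.Agent.Lib.Helper99.C64

universe u

/-- A fourth root of unity is a power of `ι` when `ι ^ 2 = -1`. -/
theorem frame_pow_of_pow_four {F : Type u} [Field F] {ι c : F} (hι : ι ^ 2 = -1) (hc : c ^ 4 = 1) :
    ∃ k : ℕ, c = ι ^ k := by
  have h : (c - 1) * (c + 1) * (c - ι) * (c + ι) = 0 := by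
    have e : (c - 1) * (c + 1) * (c - ι) * (c + ι) = c ^ 4 - 1 - (c ^ 2 - 1) * (ι ^ 2 + 1) := by
      ring
    rw [e, hc, hι]
    ring
  rcases mul_eq_zero.mp h with h | h
  · rcases mul_eq_zero.mp h with h | h
    · rcases mul_eq_zero.mp h with h | h
      · exact ⟨0, by rw [pow_zero]; exact sub_eq_zero.mp h⟩
      · exact ⟨2, by rw [hι]; exact eq_neg_of_add_eq_zero_left h⟩
    · exact ⟨1, by rw [pow_one]; exact sub_eq_zero.mp h⟩
  · refine ⟨3, ?_⟩
    have e : ι ^ 3 = -ι := by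
      calc ι ^ 3 = ι ^ 2 * ι := by ring
        _ = -ι := by rw [hι]; ring
    rw [e]
    exact eq_neg_of_add_eq_zero_left h

/-- Powers of a conjugate. -/
theorem frame_conj_pow {G : Type u} [Group G] (h a : G) (n : ℕ) :
    (h⁻¹ * a * h) ^ n = h⁻¹ * a ^ n * h := by
  induction n with
  | zero => simp
  | succ n ih =>
    rw [pow_succ, ih, pow_succ]
    group

/-- Transport of the normalizer along a conjugation. -/
theorem frame_normalizer_conj {G : Type u} [Group G] (R R' : Subgroup G) (h : G)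
    (h1 : ∀ g ∈ R, h⁻¹ * g * h ∈ R') (h2 : ∀ s ∈ R', h * s * h⁻¹ ∈ R) (y : G) :
    y ∈ Subgroup.normalizer (R : Set G) ↔ h⁻¹ * y * h ∈ Subgroup.normalizer (R' : Set G) := by
  have hiff : ∀ g : G, g ∈ R ↔ h⁻¹ * g * h ∈ R' := by
    intro g
    refine ⟨h1 g, fun hg => ?_⟩
    have := h2 _ hg
    have e : h * (h⁻¹ * g * h) * h⁻¹ = g := by group
    rwa [e] at this
  rw [Subgroup.mem_normalizer_iff, Subgroup.mem_normalizer_iff]
  constructor
  · intro hy s
    have e1 : h⁻¹ * (h * s * h⁻¹) * h = s := by group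
    have e2 : h⁻¹ * (y * (h * s * h⁻¹) * y⁻¹) * h = h⁻¹ * y * h * s * (h⁻¹ * y * h)⁻¹ := by group
    have := hy (h * s * h⁻¹)
    rw [hiff (h * s * h⁻¹), hiff (y * (h * s * h⁻¹) * y⁻¹), e1, e2] at this
    exact this
  · intro hy g
    have e2 : h⁻¹ * (y * g * y⁻¹) * h = h⁻¹ * y * h * (h⁻¹ * g * h) * (h⁻¹ * y * h)⁻¹ := by group
    rw [hiff g, hiff (y * g * y⁻¹), e2]
    exact hy (h⁻¹ * g * h)

/-- **[FRAME]** from [STRUCT], [GENS], [BASIS]. -/
theorem pkgFrame_of (h1 : PkgStruct.{u}) (h2 : PkgGens.{u}) (h3 : PkgBasis.{u}) :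
    PkgFrame.{u} := by
  intro F _ _ p _ _ hcard hp4 R hR hRc
  obtain ⟨hsq, hcm⟩ := h1 F p hcard hp4 R hR hRc
  obtain ⟨ι, hι, a1, b1, a2, b2, ha1, hb1, ha2, hb2, ⟨z, hzR, hz⟩, hrel, hgen⟩ :=
    h2 F p hcard hp4 R hR hRc hsq hcm
  have h2F : (2 : F) ≠ 0 := by
    intro h
    have h' : ((2 : ℕ) : F) = 0 := by exact_mod_cast h
    rw [CharP.cast_eq_zero_iff F p] at h'
    have hle := Nat.le_of_dvd (by norm_num) h'
    have hp : p.Prime := Fact.out
    have := hp.two_le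
    interval_cases p
    omega
  obtain ⟨h, hA1, hB1, hA2, hB2⟩ := h3 F h2F a1 b1 a2 b2 hrel
  refine ⟨ι, hι, h, ?_⟩
  have hmem : ∀ s : GL (Fin 4) F, (s : M4 F) ∈ gens ι → s ∈ R0 ι :=
    fun s hs => Subgroup.subset_closure hs
  have hu1 : h⁻¹ * a1 * h ∈ R0 ι := hmem _ (by
    rw [Units.val_mul, Units.val_mul, hA1]; simp [gens])
  have hu2 : h⁻¹ * b1 * h ∈ R0 ι := hmem _ (by
    rw [Units.val_mul, Units.val_mul, hB1]; simp [gens])
  have hu3 : h⁻¹ * a2 * h ∈ R0 ι := hmem _ (by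
    rw [Units.val_mul, Units.val_mul, hA2]; simp [gens])
  have hu4 : h⁻¹ * b2 * h ∈ R0 ι := hmem _ (by
    rw [Units.val_mul, Units.val_mul, hB2]; simp [gens])
  have hzc : h⁻¹ * z * h = z := by
    apply Units.ext
    rw [Units.val_mul, Units.val_mul, hz, Matrix.mul_smul, Matrix.smul_mul, mul_one,
      Units.inv_mul]
  have hzc' : h * z * h⁻¹ = z := by
    apply Units.ext
    rw [Units.val_mul, Units.val_mul, hz, Matrix.mul_smul, Matrix.smul_mul, mul_one,
      Units.mul_inv]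
  have huz : h⁻¹ * z * h ∈ R0 ι := hmem _ (by
    rw [hzc, hz]; simp [gens])
  have hsub1 : ∀ g ∈ R, h⁻¹ * g * h ∈ R0 ι := by
    intro g hg
    obtain ⟨c, e1, e2, e3, e4, hc, hgv⟩ := hgen g hg
    obtain ⟨k, rfl⟩ := frame_pow_of_pow_four hι hc
    have hgeq : g = z ^ k * (a1 ^ e1 * b1 ^ e2 * a2 ^ e3 * b2 ^ e4) := by
      apply Units.ext
      rw [hgv]
      simp only [Units.val_mul, Units.val_pow_eq_pow_val, hz]
      rw [smul_pow, one_pow, Matrix.smul_mul, Matrix.one_mul]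
    have e : h⁻¹ * (z ^ k * (a1 ^ e1 * b1 ^ e2 * a2 ^ e3 * b2 ^ e4)) * h =
        (h⁻¹ * z * h) ^ k * ((h⁻¹ * a1 * h) ^ e1 * (h⁻¹ * b1 * h) ^ e2 * (h⁻¹ * a2 * h) ^ e3 *
          (h⁻¹ * b2 * h) ^ e4) := by
      simp only [frame_conj_pow]
      group
    rw [hgeq, e]
    exact mul_mem (pow_mem huz k) (mul_mem (mul_mem (mul_mem (pow_mem hu1 _) (pow_mem hu2 _))
      (pow_mem hu3 _)) (pow_mem hu4 _))
  have hsub2 : ∀ s ∈ R0 ι, h * s * h⁻¹ ∈ R := by
    have hle : R0 ι ≤ R.comap (MulAut.conj h).toMonoidHom := by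
      unfold R0
      rw [Subgroup.closure_le]
      intro s hs
      rw [SetLike.mem_coe, Subgroup.mem_comap]
      show h * s * h⁻¹ ∈ R
      have hs' : (s : M4 F) ∈ gens ι := hs
      simp only [gens, Set.mem_insert_iff, Set.mem_singleton_iff] at hs'
      rcases hs' with hs' | hs' | hs' | hs' | hs'
      · have e : s = z := Units.ext (by rw [hs', hz])
        rw [e, hzc']
        exact hzR
      · have e : s = h⁻¹ * a1 * h := Units.ext (by rw [hs', Units.val_mul, Units.val_mul, hA1])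
        have e' : h * (h⁻¹ * a1 * h) * h⁻¹ = a1 := by group
        rw [e, e']
        exact ha1
      · have e : s = h⁻¹ * b1 * h := Units.ext (by rw [hs', Units.val_mul, Units.val_mul, hB1])
        have e' : h * (h⁻¹ * b1 * h) * h⁻¹ = b1 := by group
        rw [e, e']
        exact hb1
      · have e : s = h⁻¹ * a2 * h := Units.ext (by rw [hs', Units.val_mul, Units.val_mul, hA2])
        have e' : h * (h⁻¹ * a2 * h) * h⁻¹ = a2 := by group
        rw [e, e']
        exact ha2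
      · have e : s = h⁻¹ * b2 * h := Units.ext (by rw [hs', Units.val_mul, Units.val_mul, hB2])
        have e' : h * (h⁻¹ * b2 * h) * h⁻¹ = b2 := by group
        rw [e, e']
        exact hb2
    intro s hs
    exact hle hs
  intro y
  exact frame_normalizer_conj R (R0 ι) h hsub1 hsub2 y

end Cfsg.Agent.Lib.Helper29.C64
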